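import Groth.Prelude.Def_Canon
import Groth.Agent.Lib.AmpleDesc.Main
import Groth.Agent.Lib.DerDiff26.Flat
import Groth.Agent.Lib.OmegaAb15.Basic
import Groth.Agent.Lib.ExtPowX.Pullback
import Groth.Agent.Lib.NegVan7.Main
import Groth.Agent.Lib.Kodaira.Cones
import Groth.Agent.Lib.OX.ProjLocal
import Groth.Agent.Lib.OX.OneDegLocus
import Groth.Agent.Lib.K0Sub.RankNilp
import Groth.Agent.Lib.Seesaw26.Scheme
import Groth.Agent.Lib.AmpSpread10.InvModel
import Groth.Agent.Lib.CMReg.StructureMain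
import Groth.Agent.Lib.CurveLocus.Basic

set_option autoImplicit false
set_option linter.all false

universe u

open CategoryTheory CategoryTheory.Limits AlgebraicGeometry

namespace GrothLib.DelPezzo7

/-- A finite locally free module which becomes invertible on a surjective cover is invertible. -/
theorem isInvertible_of_pullback {X X' : Scheme.{u}} (f : X' ⟶ X) [Surjective f] {E : X.Modules}
    (hE : FlatMod.IsFinLocFree E) (h : PicF.IsInvertible ((Scheme.Modules.pullback f).obj E)) :
    PicF.IsInvertible E := by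
  refine (Seesaw26.isInvertible_iff_rank_one E).1 fun x => ?_
  obtain ⟨U, n, hx, ⟨e⟩⟩ := hE x
  obtain ⟨z, rfl⟩ := f.surjective x
  have hn : n = 1 := AmpSpread10.eq_one_of_pullback (f ∣_ U) (⟨z, hx⟩ : (f ⁻¹ᵁ U : Scheme.{u}))
    (OX.isFinLocFreeOfRank_of_iso e.symm (K0Sub.isFinLocFreeOfRank_freeMod n))
    (ParaPair.isInvertible_of_iso
      ((OX.pullRestrictIso f U).app E ≪≫
        (Scheme.Modules.restrictFunctorIsoPullback (f ⁻¹ᵁ U).ι).app _)
      (Ample.isInvertible_pullback (f ⁻¹ᵁ U).ι h))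
  subst hn
  exact ⟨U, hx, ⟨e⟩⟩

/-- The del Pezzo condition on a proper smooth scheme over a field descends along an extension of fields. -/
theorem descend_fibre {k K : Type u} [Field k] [Field K] {X X' : Scheme.{u}}
    (p : X ⟶ Spec (CommRingCat.of k)) [IsProper p] [Smooth p]
    (t : Spec (CommRingCat.of K) ⟶ Spec (CommRingCat.of k)) {i : X' ⟶ X}
    {q : X' ⟶ Spec (CommRingCat.of K)} (h : IsPullback i q p t)
    (hint : IsIntegral X') (hdim : topologicalKrullDim X' = 2) (ω' D' : X'.Modules)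
    (hω : Canon.IsTopDiff q 2 ω') (hD : ClSub.IsInverseOf D' ω') (hA : CohB1.IsAmple D') :
    IsIntegral X ∧ topologicalKrullDim X = 2 ∧
      ∃ ω D : X.Modules, Canon.IsTopDiff p 2 ω ∧ ClSub.IsInverseOf D ω ∧ CohB1.IsAmple D := by
  haveI : Surjective t := ⟨fun x => ⟨Classical.arbitrary _,
    Subsingleton.elim (α := Spec (CommRingCat.of k)) _ _⟩⟩
  haveI : Flat t := CurveLocus.flat_to_spec_field _
  haveI : Surjective i := MorphismProperty.of_isPullback h.flip inferInstance
  haveI : Flat i := MorphismProperty.of_isPullback h.flip inferInstance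
  haveI : IsProper q := MorphismProperty.of_isPullback h inferInstance
  haveI : AlgebraicGeometry.IsReduced X' := @isReduced_of_isIntegral _ hint
  haveI : AlgebraicGeometry.IsReduced X := CurveLocus.isReduced_of_flat_of_surjective i
  haveI : IrreducibleSpace X := by
    haveI := @irreducibleSpace_of_isIntegral _ hint
    rw [irreducibleSpace_def, Set.top_eq_univ, ← i.surjective.range_eq, ← Set.image_univ]
    exact (IrreducibleSpace.isIrreducible_univ _).image _ i.continuous.continuousOn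
  refine ⟨isIntegral_of_irreducibleSpace_of_isReduced X,
    (CurveLocus.topologicalKrullDim_of_isPullback p h).symm.trans hdim, ?_⟩
  have hΩ : FlatMod.IsFinLocFree (Omega.sheaf p) := OmegaAb15.isFinLocFree_omega p
  obtain ⟨ω, hωf, hωe⟩ := ExtPowX.exists_extPow hΩ 2
  obtain ⟨eΩ⟩ := DerDiff26.nonempty_pullback_omega h
  obtain ⟨eω⟩ := ExtPowX.nonempty_iso (ExtPowX.isExtPow_pullback i hΩ hωe) hω eΩ
  letI : X'.Over (Spec (CommRingCat.of K)) := ⟨q⟩
  haveI : IsProper (X' ↘ Spec (CommRingCat.of K)) := ‹IsProper q›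
  have hω'inv : PicF.IsInvertible ω' := NegVan7.isInvertible_of_inverse K hA.1 hD
  have hωinv : PicF.IsInvertible ω := isInvertible_of_pullback i hωf
    (ParaPair.isInvertible_of_iso eω hω'inv)
  obtain ⟨D, hDinv, hDω⟩ := Kodaira.exists_inverse hωinv
  refine ⟨ω, D, hωe, hDω, ?_⟩
  obtain ⟨c⟩ := Ample.nonempty_pullback_tensorMod i hDinv hωinv
  obtain ⟨a⟩ := hDω
  obtain ⟨b⟩ := hD
  have b' : CohB1.tensorMod ω' D' ≅ Coh.structureModule X' := GrTilde.tensorModComm _ _ ≪≫ b
  have e₁ : CohB1.tensorMod ((Scheme.Modules.pullback i).obj D) ω' ≅ Coh.structureModule X' :=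
    Ample.LineData.tensorModMapIso (Iso.refl _) eω.symm ≪≫ c.symm ≪≫
      (Scheme.Modules.pullback i).mapIso a ≪≫ OX.pullUnitIso i
  obtain ⟨ε⟩ := CMReg.nonempty_iso_of_inverse e₁ b'
  exact Ample.isAmple_of_isAmple_pullback h hDinv ((Ample.isAmple_iff_of_iso ε).2 hA)

end GrothLib.DelPezzo7
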